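import Groth.Agent.Lib.Cartier.Algebra
import Mathlib.AlgebraicGeometry.Morphisms.Smooth
import Mathlib.AlgebraicGeometry.Group.Smooth
import Mathlib.AlgebraicGeometry.AlgClosed.Basic
import Mathlib.FieldTheory.IsAlgClosed.AlgebraicClosure
import Mathlib.CategoryTheory.Monoidal.Cartesian.Grp

/-!
# Smoothness of group schemes: one smooth point suffices; Cartier's theorem
-/

open CategoryTheory Limits AlgebraicGeometry MonoidalCategory CartesianMonoidalCategory MonObj

namespace Groth.Agent.Cartier

universe u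

variable {K : Type u} [Field K]

set_option backward.isDefEq.respectTransparency false in
/-- Over an algebraically closed field one smooth point suffices. -/
theorem smooth_of_nonempty_smoothLocus_of_isAlgClosed [IsAlgClosed K] (G : Over (Spec (CommRingCat.of K)))
    [GrpObj G] [LocallyOfFiniteType G.hom] (h : (G.hom.smoothLocus : Set G.left).Nonempty) :
    Smooth G.hom := by
  have := LocallyOfFiniteType.jacobsonSpace (Y := Spec _) G.hom
  rw [← Scheme.Hom.smoothLocus_eq_top_iff, ← TopologicalSpace.Opens.coe_eq_univ,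
    ← not_ne_iff, ← Set.nonempty_compl]
  intro H
  obtain ⟨x, hx, hxc⟩ :=
    nonempty_inter_closedPoints H G.hom.smoothLocus.2.isClosed_compl.isLocallyClosed
  obtain ⟨y, hy : y ∈ G.hom.smoothLocus, hyc⟩ := nonempty_inter_closedPoints h
    G.hom.smoothLocus.2.isLocallyClosed
  let x' : 𝟙_ _ ⟶ G := Over.homMk (pointOfClosedPoint G.hom x hxc) (by simp)
  let y' : 𝟙_ _ ⟶ G := Over.homMk (pointOfClosedPoint G.hom y hyc) (by simp)
  let α := (GrpObj.mulRight (A := G) x').symm ≪≫ (GrpObj.mulRight (A := G) y')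
  have hα : x' ≫ α.hom = y' := by
    dsimp only [Iso.trans_hom, Iso.symm_hom, α]
    rw [← Category.assoc, ← Iso.eq_comp_inv]
    simp [x', comp_lift_assoc]
  have hα' : α.hom.left x = y := by
    simpa [x', y'] using congr(($hα).left (IsLocalRing.closedPoint K))
  haveI : IsIso α.hom.left := inferInstanceAs (IsIso ((Over.forget _).map α.hom))
  have hs : α.hom.left ⁻¹ᵁ G.hom.smoothLocus = G.hom.smoothLocus := by
    rw [Scheme.Hom.preimage_smoothLocus_eq]
    simp only [Over.w]
  rw [← hα', ← Scheme.Hom.mem_preimage, hs] at hy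
  exact hx hy

set_option backward.isDefEq.respectTransparency false in
/-- A group scheme with a smooth point is smooth. -/
theorem smooth_of_nonempty_smoothLocus (G : Over (Spec (CommRingCat.of K)))
    [GrpObj G] [LocallyOfFiniteType G.hom] (h : (G.hom.smoothLocus : Set G.left).Nonempty) :
    Smooth G.hom := by
  let φ : Spec (CommRingCat.of (AlgebraicClosure K)) ⟶ Spec (CommRingCat.of K) :=
    Spec.map (CommRingCat.ofHom (algebraMap K (AlgebraicClosure K)))
  apply MorphismProperty.of_pullback_snd_of_descendsAlong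
    (Q := @Surjective ⊓ @Flat ⊓ @QuasiCompact) (g := φ)
  · exact ⟨⟨inferInstance, inferInstance⟩, inferInstance⟩
  let G' := (Over.pullback φ).obj G
  letI : GrpObj G' := Functor.grpObjObj
  haveI : LocallyOfFiniteType G'.hom := by dsimp [G']; infer_instance
  suffices Smooth G'.hom by exact this
  refine smooth_of_nonempty_smoothLocus_of_isAlgClosed G' ?_
  set π := pullback.fst G.hom φ
  set U := G.hom.smoothLocus
  haveI : Smooth (U.ι ≫ G.hom) := by
    rw [← Scheme.Hom.smoothLocus_eq_top_iff, ← Scheme.Hom.preimage_smoothLocus_eq, U.ι_preimage_self]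
  have hP : IsPullback (π ∣_ U) ((π ⁻¹ᵁ U).ι ≫ G'.hom) (U.ι ≫ G.hom) φ :=
    (isPullback_morphismRestrict π U).paste_vert (IsPullback.of_hasPullback G.hom φ)
  haveI : Smooth ((π ⁻¹ᵁ U).ι ≫ G'.hom) := MorphismProperty.of_isPullback hP inferInstance
  obtain ⟨x, hx⟩ := h
  obtain ⟨y, hy⟩ := π.surjective x
  have hyU : y ∈ π ⁻¹ᵁ U := by show π y ∈ U; rw [hy]; exact hx
  refine ⟨y, ?_⟩
  have h0 := Scheme.Hom.preimage_smoothLocus_eq (π ⁻¹ᵁ U).ι G'.hom
  rw [Scheme.Hom.smoothLocus_eq_top ((π ⁻¹ᵁ U).ι ≫ G'.hom)] at h0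
  have h1 : (⟨y, hyU⟩ : (π ⁻¹ᵁ U).toScheme) ∈ (π ⁻¹ᵁ U).ι ⁻¹ᵁ G'.hom.smoothLocus := h0.ge trivial
  exact h1

set_option backward.isDefEq.respectTransparency false in
/-- Over a perfect field a point whose local ring is a field is a smooth point. -/
theorem mem_smoothLocus_of_isField_stalk [PerfectField K] {X : Scheme.{u}} (f : X ⟶ Spec (CommRingCat.of K))
    [LocallyOfFinitePresentation f] (x : X) (hx : IsField (X.presheaf.stalk x)) : x ∈ f.smoothLocus := by
  have := LocallyOfFiniteType.stalkMap f x
  rw [Scheme.Hom.mem_smoothLocus]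
  algebraize [(f.stalkMap x).hom]
  let K' := (Spec.structureSheaf K).presheaf.stalk (f x)
  let e : K ≃ₐ[K] K' := IsLocalization.atUnits _ (f x).asIdeal.primeCompl
      (fun x hx ↦ by aesop (add simp IsUnit.mem_submonoid_iff))
  have : Algebra.IsAlgebraic K K' :=
    .of_injective e.symm.toAlgHom e.symm.injective
  let : Field K' := (e.toRingEquiv.symm.isField (Field.toIsField K)).toField
  let : Field ((Spec (.of K)).presheaf.stalk (f x)) := this
  have : PerfectField ((Spec (.of K)).presheaf.stalk (f x)) :=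
    Algebra.IsAlgebraic.perfectField (K := K) (L := (Spec.structureSheaf K).presheaf.stalk (f x))
  let : Field (X.presheaf.stalk x) := hx.toField
  exact Algebra.FormallySmooth.of_perfectField

/-- The structure map of the local ring at a point of a scheme over a field. -/
noncomputable def structMap {X : Scheme.{u}} (f : X ⟶ Spec (CommRingCat.of K)) (x : X) :
    CommRingCat.of K ⟶ X.presheaf.stalk x :=
  Spec.preimage (X.fromSpecStalk x ≫ f)

set_option backward.isDefEq.respectTransparency false in
theorem essFiniteType_structMap {X : Scheme.{u}} (f : X ⟶ Spec (CommRingCat.of K)) [LocallyOfFiniteType f]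
    (x : X) : (structMap f x).hom.EssFiniteType := by
  have h : structMap f x = StructureSheaf.toStalk K (f x) ≫ f.stalkMap x := by
    apply Spec.map_injective
    rw [structMap, Spec.map_preimage, Spec.map_comp, ← Scheme.SpecMap_stalkMap_fromSpecStalk,
      Spec.fromSpecStalk_eq']
  rw [h]
  refine RingHom.EssFiniteType.comp ?_ (LocallyOfFiniteType.stalkMap f x)
  exact Algebra.EssFiniteType.of_isLocalization _ (f x).asIdeal.primeCompl

/-- The ring homomorphism to dual numbers attached to a derivation at a point. -/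
def dualOfDer {A B : Type*} [CommRing A] [CommRing B] (f : A →+* B) (d : A →+ B) (h1 : d 1 = 0)
    (h : ∀ x y, d (x * y) = f x * d y + f y * d x) : A →+* DualNumber B where
  toFun x := TrivSqZeroExt.inl (f x) + TrivSqZeroExt.inr (d x)
  map_one' := by ext <;> simp [h1]
  map_mul' x y := by
    apply TrivSqZeroExt.ext
    · simp [map_mul]
    · simp only [h, TrivSqZeroExt.snd_add, TrivSqZeroExt.snd_inl, TrivSqZeroExt.snd_inr, TrivSqZeroExt.snd_mul,
        TrivSqZeroExt.fst_add, TrivSqZeroExt.fst_inl, TrivSqZeroExt.fst_inr, zero_add, add_zero, smul_eq_mul,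
        MulOpposite.smul_eq_mul_unop, MulOpposite.unop_op]
      ring
  map_zero' := by ext <;> simp
  map_add' x y := by ext <;> simp

/-- Functoriality of dual numbers. -/
def dualMap {A B : Type*} [CommRing A] [CommRing B] (f : A →+* B) : DualNumber A →+* DualNumber B where
  toFun x := TrivSqZeroExt.inl (f x.fst) + TrivSqZeroExt.inr (f x.snd)
  map_one' := by ext <;> simp
  map_mul' x y := by
    apply TrivSqZeroExt.ext
    · simp [map_mul]
    · simp only [TrivSqZeroExt.snd_add, TrivSqZeroExt.snd_inl, TrivSqZeroExt.snd_inr, TrivSqZeroExt.snd_mul,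
        TrivSqZeroExt.fst_add, TrivSqZeroExt.fst_inl, TrivSqZeroExt.fst_inr, zero_add, add_zero, smul_eq_mul,
        MulOpposite.smul_eq_mul_unop, MulOpposite.unop_op, map_add, map_mul]
  map_zero' := by ext <;> simp
  map_add' x y := by ext <;> simp

theorem exists_factor {X : Scheme.{u}} {R : CommRingCat.{u}} [IsLocalRing R] (c : Spec R ⟶ X) (x : X)
    (h : c (IsLocalRing.closedPoint R) = x) :
    ∃ φ : X.presheaf.stalk x ⟶ R, Spec.map φ ≫ X.fromSpecStalk x = c := by
  subst h
  exact ⟨_, Scheme.Spec_stalkClosedPointTo_fromSpecStalk _⟩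

theorem eq_of_fromSpecStalk {X : Scheme.{u}} {R : CommRingCat.{u}} {x : X}
    {φ ψ : X.presheaf.stalk x ⟶ R} (h : Spec.map φ ≫ X.fromSpecStalk x = Spec.map ψ ≫ X.fromSpecStalk x) :
    φ = ψ :=
  Spec.map_injective ((cancel_mono _).1 h)

set_option backward.isDefEq.respectTransparency false in
/-- Differentials of the local ring at the unit of a group scheme are free. -/
theorem free_kaehler_stalk_one (G : Over (Spec (CommRingCat.of K))) [GrpObj G] [LocallyOfFiniteType G.hom] :
    letI := (structMap G.hom (η[G].left (IsLocalRing.closedPoint K))).hom.toAlgebra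
    Module.Free (G.left.presheaf.stalk (η[G].left (IsLocalRing.closedPoint K)))
      Ω[G.left.presheaf.stalk (η[G].left (IsLocalRing.closedPoint K))⁄K] := by
  let e : G.left := η[G].left (IsLocalRing.closedPoint K)
  let A := G.left.presheaf.stalk e
  let F := G.left.fromSpecStalk e
  let κ : CommRingCat.of K ⟶ A := structMap G.hom e
  have hκ : Spec.map κ = F ≫ G.hom := Spec.map_preimage _
  letI : Algebra K A := κ.hom.toAlgebra
  haveI : Algebra.EssFiniteType K A := essFiniteType_structMap G.hom e
  haveI : IsNoetherianRing A := Algebra.EssFiniteType.isNoetherianRing K A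
  let evc : A ⟶ CommRingCat.of K := Scheme.stalkClosedPointTo η[G].left
  have hev : Spec.map evc ≫ F = η[G].left := Scheme.Spec_stalkClosedPointTo_fromSpecStalk _
  have hκev : κ ≫ evc = 𝟙 _ := by
    apply Spec.map_injective
    rw [Spec.map_comp, hκ, Spec.map_id, reassoc_of% hev]
    exact Over.w η[G]
  let ev : A →ₐ[K] K := { evc.hom with commutes' := fun c => congr($hκev c) }
  have hker : RingHom.ker (ev : A →+* K) = IsLocalRing.maximalIdeal A := by
    refine (IsLocalRing.eq_maximalIdeal ?_)
    exact RingHom.ker_isMaximal_of_surjective _ fun c => ⟨κ c, congr($hκev c)⟩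
  refine free_kaehler_of_extends K A ev hker fun l hl => ?_
  haveI : IsLocalRing (DualNumber A) := isLocalRing_dualNumber A
  have hl1 : l 1 = 0 := by have := hl 1 1; simpa using this
  -- ring maps
  let v : A ⟶ CommRingCat.of (DualNumber K) :=
    CommRingCat.ofHom (dualOfDer (ev : A →+* K) l.toAddMonoidHom hl1 hl)
  let f₀ : CommRingCat.of K ⟶ CommRingCat.of (DualNumber K) := CommRingCat.ofHom (TrivSqZeroExt.inlHom K K)
  let jA : A ⟶ CommRingCat.of (DualNumber A) := CommRingCat.ofHom (TrivSqZeroExt.inlHom A A)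
  let pr : CommRingCat.of (DualNumber A) ⟶ A := CommRingCat.ofHom (TrivSqZeroExt.fstHom A A A).toRingHom
  let m₂ : CommRingCat.of (DualNumber K) ⟶ CommRingCat.of (DualNumber A) := CommRingCat.ofHom (dualMap κ.hom)
  let me : CommRingCat.of (DualNumber A) ⟶ CommRingCat.of (DualNumber K) :=
    CommRingCat.ofHom (dualMap (ev : A →+* K))
  have hf₀v : κ ≫ v = f₀ := by
    ext c
    · show (TrivSqZeroExt.inl (ev (κ c)) + TrivSqZeroExt.inr (l (κ c)) : DualNumber K).fst = _
      simp [f₀, show ev (κ c) = c from congr($hκev c)]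
    · show (TrivSqZeroExt.inl (ev (κ c)) + TrivSqZeroExt.inr (l (κ c)) : DualNumber K).snd = _
      have : κ c = c • (1 : A) := by rw [Algebra.smul_def, _root_.mul_one]; rfl
      simp [f₀, this, hl1]
  have hf₀m : f₀ ≫ m₂ = κ ≫ jA := by ext c <;> simp [f₀, m₂, jA, dualMap]
  have hjp : jA ≫ pr = 𝟙 A := by ext x; simp [jA, pr]
  have hmp : m₂ ≫ pr = CommRingCat.ofHom (TrivSqZeroExt.fstHom K K K).toRingHom ≫ κ := by
    refine CommRingCat.hom_ext (RingHom.ext fun x => ?_)
    simp [m₂, pr, dualMap]
    try rfl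
  have hvp : v ≫ CommRingCat.ofHom (TrivSqZeroExt.fstHom K K K).toRingHom = evc := by
    ext x; simp [v, dualOfDer]; rfl
  have hjm : jA ≫ me = evc ≫ f₀ := by ext x <;> simp [jA, me, f₀, dualMap] <;> rfl
  have hmm : m₂ ≫ me = 𝟙 _ := by
    refine CommRingCat.hom_ext (RingHom.ext fun x => ?_)
    simp [m₂, me, dualMap, show ∀ c, ev (κ c) = c from fun c => congr($hκev c)]
    exact TrivSqZeroExt.ext (by simp) (by simp)
  -- test objects and points
  let TA : Over (Spec (CommRingCat.of K)) := Over.mk (Spec.map κ)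
  let T₁ : Over (Spec (CommRingCat.of K)) := Over.mk (Spec.map (κ ≫ jA))
  let T₀ : Over (Spec (CommRingCat.of K)) := Over.mk (Spec.map f₀)
  let iA : TA ⟶ G := Over.homMk F hκ.symm
  let π : T₁ ⟶ TA := Over.homMk (Spec.map jA) (Spec.map_comp κ jA).symm
  let mm : T₁ ⟶ T₀ := Over.homMk (Spec.map m₂) (by
    show Spec.map m₂ ≫ Spec.map f₀ = _
    rw [← Spec.map_comp, hf₀m]; rfl)
  let p : T₀ ⟶ G := Over.homMk (Spec.map v ≫ F) (by
    show (Spec.map v ≫ F) ≫ G.hom = _
    rw [Category.assoc, ← hκ, ← Spec.map_comp, hf₀v]; rfl)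
  let z : TA ⟶ T₁ := Over.homMk (Spec.map pr) (by
    show Spec.map pr ≫ Spec.map (κ ≫ jA) = _
    rw [← Spec.map_comp, Category.assoc, hjp, Category.comp_id]; rfl)
  let w : T₀ ⟶ T₁ := Over.homMk (Spec.map me) (by
    show Spec.map me ≫ Spec.map (κ ≫ jA) = _
    rw [← Spec.map_comp, Category.assoc, hjm, ← Category.assoc, hκev, Category.id_comp]; rfl)
  let c : T₁ ⟶ G := (π ≫ iA) * (mm ≫ p)
  have hzc : z ≫ c = iA := by
    rw [MonObj.comp_mul]
    have h1 : z ≫ π ≫ iA = iA := by
      ext1
      show Spec.map pr ≫ Spec.map jA ≫ F = F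
      rw [← Spec.map_comp_assoc, hjp, Spec.map_id, Category.id_comp]
    have h2 : z ≫ mm ≫ p = 1 := by
      ext1
      show Spec.map pr ≫ Spec.map m₂ ≫ Spec.map v ≫ F = (toUnit TA ≫ η[G]).left
      rw [Over.comp_left, Over.toUnit_left, ← Spec.map_comp_assoc, ← Spec.map_comp_assoc, hmp,
        ← Category.assoc v, hvp, Spec.map_comp, Category.assoc, hev]
      rfl
    rw [h1, h2, _root_.mul_one]
  have hwc : w ≫ c = p := by
    rw [MonObj.comp_mul]
    have h1 : w ≫ π ≫ iA = 1 := by
      ext1
      show Spec.map me ≫ Spec.map jA ≫ F = (toUnit T₀ ≫ η[G]).left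
      rw [Over.comp_left, Over.toUnit_left, ← Spec.map_comp_assoc, hjm, Spec.map_comp, Category.assoc, hev]
      rfl
    have h2 : w ≫ mm ≫ p = p := by
      ext1
      show Spec.map me ≫ Spec.map m₂ ≫ Spec.map v ≫ F = Spec.map v ≫ F
      rw [← Spec.map_comp_assoc m₂, hmm, Spec.map_id, Category.id_comp]
    rw [h1, h2, _root_.one_mul]
  have hpt : c.left (IsLocalRing.closedPoint (CommRingCat.of (DualNumber A))) = e := by
    have h := congr(($hzc).left (IsLocalRing.closedPoint A))
    rw [Over.comp_left, Scheme.Hom.comp_apply] at h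
    have hz : z.left (IsLocalRing.closedPoint A) = IsLocalRing.closedPoint (DualNumber A) := by
      haveI : IsLocalHom pr.hom := ⟨fun x hx => TrivSqZeroExt.isUnit_iff_isUnit_fst.2 hx⟩
      exact Spec_closedPoint (f := pr)
    rw [hz] at h
    exact h.trans Scheme.fromSpecStalk_closedPoint
  obtain ⟨φ, hφ⟩ := exists_factor (R := CommRingCat.of (DualNumber A)) c.left e hpt
  have hκφ : κ ≫ φ = κ ≫ jA := by
    apply Spec.map_injective
    rw [Spec.map_comp, hκ, reassoc_of% hφ]
    exact Over.w c
  have hφ1 : φ ≫ pr = 𝟙 A := by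
    apply eq_of_fromSpecStalk
    rw [Spec.map_comp, Category.assoc, hφ, Spec.map_id, Category.id_comp]
    exact congr(($hzc).left)
  have hφ2 : φ ≫ me = v := by
    apply eq_of_fromSpecStalk
    rw [Spec.map_comp, Category.assoc, hφ]
    exact congr(($hwc).left)
  have hfst : ∀ x, (φ x).fst = x := fun x => congr($hφ1 x)
  let DL : A →ₗ[K] A :=
    { toFun := fun x => (φ x).snd
      map_add' := fun x y => by rw [map_add]; rfl
      map_smul' := fun r x => by
        rw [RingHom.id_apply, Algebra.smul_def, Algebra.smul_def, map_mul]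
        have hc : φ (algebraMap K A r) = jA (κ r) := congr($hκφ r)
        rw [hc]
        simp [jA]; rfl }
  refine ⟨Derivation.mk' DL fun x y => ?_, fun x => ?_⟩
  · show (φ (x * y)).snd = x * (φ y).snd + y * (φ x).snd
    rw [map_mul]
    simp [hfst, mul_comm]
  · show ev (φ x).snd = l x
    have := congr(TrivSqZeroExt.snd ($hφ2 x))
    simp [me, v, dualMap, dualOfDer] at this
    exact this

/-- **Cartier's theorem**: in characteristic zero a group scheme locally of finite type is smooth. -/
theorem smooth_of_charZero (G : Over (Spec (CommRingCat.of K))) [GrpObj G] [CharZero K]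
    [LocallyOfFiniteType G.hom] : Smooth G.hom := by
  let e : G.left := η[G].left (IsLocalRing.closedPoint K)
  let A := G.left.presheaf.stalk e
  letI : Algebra K A := (structMap G.hom e).hom.toAlgebra
  haveI : Algebra.EssFiniteType K A := essFiniteType_structMap G.hom e
  haveI : IsNoetherianRing A := Algebra.EssFiniteType.isNoetherianRing K A
  haveI : Module.Free A Ω[A⁄K] := free_kaehler_stalk_one G
  obtain ⟨p, hp⟩ := (Ideal.nonempty_minimalPrimes (I := (⊥ : Ideal A)) bot_ne_top)
  haveI hpp : p.IsPrime := hp.1.1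
  let q : Spec A := ⟨p, hpp⟩
  let Aq := Localization.AtPrime p
  haveI : Algebra.FormallyEtale A Aq := Algebra.FormallyEtale.of_isLocalization p.primeCompl
  haveI : Module.Free Aq Ω[Aq⁄K] :=
    Module.Free.of_equiv (KaehlerDifferential.tensorKaehlerEquivOfFormallyEtale K A Aq)
  haveI : Algebra.EssFiniteType A Aq := Algebra.EssFiniteType.of_isLocalization _ p.primeCompl
  haveI : Algebra.EssFiniteType K Aq := Algebra.EssFiniteType.comp K A Aq
  have hnil : IsNilpotent (IsLocalRing.maximalIdeal Aq) := by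
    haveI : IsNoetherianRing Aq := IsLocalization.isNoetherianRing p.primeCompl Aq inferInstance
    haveI : Ring.KrullDimLE 0 Aq := .of_isLocalization p hp _
    rw [← Ring.KrullDimLE.nilradical_eq_maximalIdeal]
    exact IsNoetherianRing.isNilpotent_nilradical Aq
  have hfield : IsField Aq := isField_of_free_kaehler K Aq hnil
  -- the corresponding point of the scheme
  obtain ⟨U, hU, heU, -⟩ := exists_isAffineOpen_mem_and_subset (X := G.left) (x := e) (U := ⊤) trivial
  letI : Algebra Γ(G.left, U) A := TopCat.Presheaf.algebra_section_stalk G.left.presheaf (⟨e, heU⟩ : U)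
  haveI : IsLocalization.AtPrime A (hU.primeIdealOf ⟨e, heU⟩).asIdeal := hU.isLocalization_stalk ⟨e, heU⟩
  let P : PrimeSpectrum Γ(G.left, U) := ⟨p.comap (algebraMap Γ(G.left, U) A), inferInstance⟩
  haveI : IsLocalization.AtPrime Aq P.asIdeal :=
    IsLocalization.isLocalization_isLocalization_atPrime_isLocalization
      (hU.primeIdealOf ⟨e, heU⟩).asIdeal.primeCompl Aq p
  have hy : hU.fromSpec P ∈ U := hU.range_fromSpec.le ⟨P, rfl⟩
  letI : Algebra Γ(G.left, U) (G.left.presheaf.stalk (hU.fromSpec P)) :=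
    TopCat.Presheaf.algebra_section_stalk G.left.presheaf (⟨hU.fromSpec P, hy⟩ : U)
  haveI : IsLocalization.AtPrime (G.left.presheaf.stalk (hU.fromSpec P)) P.asIdeal :=
    hU.isLocalization_stalk' P hy
  let ψ : G.left.presheaf.stalk (hU.fromSpec P) ≃+* Aq :=
    (IsLocalization.algEquiv P.asIdeal.primeCompl _ _).toRingEquiv
  exact smooth_of_nonempty_smoothLocus G
    ⟨hU.fromSpec P, mem_smoothLocus_of_isField_stalk G.hom _ (ψ.toMulEquiv.isField hfield)⟩

end Groth.Agent.Cartier
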