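import Mathlib.RingTheory.Smooth.Field
import Mathlib.RingTheory.Kaehler.Basic
import Mathlib.RingTheory.Etale.Kaehler
import Mathlib.RingTheory.Ideal.Cotangent
import Mathlib.RingTheory.DualNumber
import Mathlib.RingTheory.Artinian.Ring
import Mathlib.RingTheory.Spectrum.Prime.RingHom
import Mathlib.LinearAlgebra.Dimension.Constructions

/-!
# Cartier's theorem, algebraic part

A local algebra over a field of characteristic zero with free differentials has a field as each of its
Artinian localizations; differentials are free as soon as every tangent vector extends to a derivation.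
-/

open IsLocalRing TensorProduct

namespace Groth.Agent.Cartier

universe u

/-- A local algebra of characteristic zero with nilpotent maximal ideal and free differentials is a field. -/
theorem isField_of_free_kaehler (K R : Type u) [Field K] [CharZero K] [CommRing R] [Algebra K R]
    [IsLocalRing R] [Algebra.EssFiniteType K R] (hnil : IsNilpotent (maximalIdeal R))
    [Module.Free R Ω[R⁄K]] : IsField R := by
  rw [isField_iff_maximalIdeal_eq]
  by_contra hne
  have hne2 : ¬ maximalIdeal R ≤ maximalIdeal R ^ 2 := by
    intro h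
    obtain ⟨n, hn⟩ := hnil
    have hall : ∀ k : ℕ, maximalIdeal R ≤ maximalIdeal R ^ (k + 1) := by
      intro k
      induction k with
      | zero => simp
      | succ k ih =>
        calc maximalIdeal R ≤ maximalIdeal R ^ 2 := h
          _ = maximalIdeal R * maximalIdeal R := pow_two _
          _ ≤ maximalIdeal R * maximalIdeal R ^ (k + 1) := Ideal.mul_mono le_rfl ih
          _ = maximalIdeal R ^ (k + 2) := (pow_succ' _ _).symm
    refine hne (le_bot_iff.1 ((hall n).trans (le_of_eq ?_)))
    rw [pow_succ, hn, zero_mul, Ideal.zero_eq_bot]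
  obtain ⟨a, ha, ha2⟩ := SetLike.not_le_iff_exists.1 hne2
  haveI : CharZero R := charZero_of_injective_algebraMap (algebraMap K R).injective
  -- a derivation to `R ⧸ m ^ 2` sending `a` to its class
  let m := maximalIdeal R
  haveI : IsScalarTower K R (ResidueField R) := inferInstance
  haveI : Algebra.EssFiniteType R (ResidueField R) := inferInstanceAs (Algebra.EssFiniteType R (R ⧸ m))
  haveI : Algebra.EssFiniteType K (ResidueField R) := Algebra.EssFiniteType.comp K R _
  haveI : Algebra.FormallySmooth K (ResidueField R) := inferInstance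
  let ρ : R ⧸ m ^ 2 →ₐ[K] ResidueField R :=
    Ideal.Quotient.liftₐ _ (IsScalarTower.toAlgHom K R (ResidueField R)) fun x hx =>
      (IsLocalRing.residue_eq_zero_iff x).2 (Ideal.pow_le_self two_ne_zero hx)
  have hρ : Function.Surjective ρ := fun y => by
    obtain ⟨x, rfl⟩ := IsLocalRing.residue_surjective y
    exact ⟨Ideal.Quotient.mk _ x, rfl⟩
  have hρker : IsNilpotent (RingHom.ker (ρ : R ⧸ m ^ 2 →+* ResidueField R)) := by
    refine ⟨2, le_bot_iff.1 ?_⟩
    refine le_of_eq_of_le (pow_two (RingHom.ker (ρ : R ⧸ m ^ 2 →+* ResidueField R))) ?_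
    rw [Ideal.mul_le]
    intro x hx y hy
    obtain ⟨x, rfl⟩ := Ideal.Quotient.mk_surjective x
    obtain ⟨y, rfl⟩ := Ideal.Quotient.mk_surjective y
    rw [RingHom.mem_ker] at hx hy
    rw [Ideal.mem_bot, ← map_mul, Ideal.Quotient.eq_zero_iff_mem, pow_two]
    exact Ideal.mul_mem_mul ((IsLocalRing.residue_eq_zero_iff x).1 hx) ((IsLocalRing.residue_eq_zero_iff y).1 hy)
  let σ : ResidueField R →ₐ[K] R ⧸ m ^ 2 :=
    Algebra.FormallySmooth.liftOfSurjective (AlgHom.id K _) ρ hρ hρker
  have hσ : ∀ y, ρ (σ y) = y := fun y =>
    DFunLike.congr_fun (Algebra.FormallySmooth.comp_liftOfSurjective (AlgHom.id K _) ρ hρ hρker) y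
  let δ : R →ₗ[K] R ⧸ m ^ 2 :=
    (Ideal.Quotient.mkₐ K (m ^ 2)).toLinearMap -
      σ.toLinearMap ∘ₗ (IsScalarTower.toAlgHom K R (ResidueField R)).toLinearMap
  have hδ : ∀ x, δ x = Ideal.Quotient.mk (m ^ 2) x - σ (residue R x) := fun x => rfl
  have hδmem : ∀ x, δ x ∈ RingHom.ker (ρ : R ⧸ m ^ 2 →+* ResidueField R) := fun x => by
    rw [RingHom.mem_ker, hδ, map_sub]
    show residue R x - ρ (σ (residue R x)) = 0
    rw [hσ, sub_self]
  have hsq : ∀ x y, δ x * δ y = 0 := fun x y => by
    obtain ⟨p, hp⟩ := Ideal.Quotient.mk_surjective (δ x)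
    obtain ⟨q, hq⟩ := Ideal.Quotient.mk_surjective (δ y)
    have hpm := hδmem x; have hqm := hδmem y
    rw [← hp, RingHom.mem_ker] at hpm; rw [← hq, RingHom.mem_ker] at hqm
    rw [← hp, ← hq, ← map_mul, Ideal.Quotient.eq_zero_iff_mem, pow_two]
    exact Ideal.mul_mem_mul ((IsLocalRing.residue_eq_zero_iff p).1 hpm) ((IsLocalRing.residue_eq_zero_iff q).1 hqm)
  let D : Derivation K R (R ⧸ m ^ 2) := Derivation.mk' δ fun x y => by
    show _ = Ideal.Quotient.mk (m ^ 2) x * δ y + Ideal.Quotient.mk (m ^ 2) y * δ x
    have h := hsq x y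
    simp only [hδ, map_mul] at h ⊢
    linear_combination -h
  let b := Module.Free.chooseBasis R Ω[R⁄K]
  obtain ⟨j, hj⟩ : ∃ j, b.repr (KaehlerDifferential.D K R a) j ∉ m := by
    by_contra hall
    push Not at hall
    have hmem : D.liftKaehlerDifferential (KaehlerDifferential.D K R a) ∈
        (m • LinearMap.range D.liftKaehlerDifferential : Submodule R (R ⧸ m ^ 2)) := by
      have hsum := b.linearCombination_repr (KaehlerDifferential.D K R a)
      rw [Finsupp.linearCombination_apply, Finsupp.sum] at hsum
      rw [← hsum, map_sum]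
      refine Submodule.sum_mem _ fun i _ => ?_
      rw [map_smul]
      exact Submodule.smul_mem_smul (hall i) (LinearMap.mem_range_self _ _)
    rw [Derivation.liftKaehlerDifferential_comp_D] at hmem
    clear hall
    have hle : LinearMap.range D.liftKaehlerDifferential ≤
        (RingHom.ker (ρ : R ⧸ m ^ 2 →+* ResidueField R)).restrictScalars R := by
      rw [LinearMap.range_eq_map, ← KaehlerDifferential.span_range_derivation, Submodule.map_span,
        Submodule.span_le]
      rintro _ ⟨_, ⟨x, rfl⟩, rfl⟩
      rw [Derivation.liftKaehlerDifferential_comp_D]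
      exact hδmem x
    have h0 : D a = 0 := by
      refine Submodule.smul_induction_on (p := fun z => z = 0) hmem (fun r hr z hz => ?_)
        (fun _ _ h h' => by rw [h, h', add_zero])
      have hz' := hle hz
      obtain ⟨q, rfl⟩ := Ideal.Quotient.mk_surjective z
      rw [Submodule.restrictScalars_mem, RingHom.mem_ker] at hz'
      show Ideal.Quotient.mk _ (r * q) = 0
      rw [Ideal.Quotient.eq_zero_iff_mem, pow_two]
      exact Ideal.mul_mem_mul hr ((IsLocalRing.residue_eq_zero_iff q).1 hz')
    apply ha2
    have : δ a = 0 := h0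
    rw [hδ, (IsLocalRing.residue_eq_zero_iff a).2 ha, map_zero, sub_zero, Ideal.Quotient.eq_zero_iff_mem] at this
    exact this
  classical
  have hex : ∃ n, a ^ n = 0 := by
    obtain ⟨n, hn⟩ := hnil
    exact ⟨n, by simpa [hn] using Ideal.pow_mem_pow ha n⟩
  obtain ⟨k, hk⟩ : ∃ k, Nat.find hex = k + 1 := Nat.exists_eq_add_one_of_ne_zero fun h => by
    have := Nat.find_spec hex
    rw [h, pow_zero] at this
    exact one_ne_zero this
  have h1 := (KaehlerDifferential.D K R).leibniz_pow a (k + 1)
  rw [← hk, Nat.find_spec hex, map_zero, hk, Nat.add_sub_cancel] at h1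
  have h2 := congr(b.repr $h1 j)
  rw [map_zero, map_nsmul, map_smul] at h2
  simp only [Finsupp.coe_zero, Pi.zero_apply, Finsupp.coe_smul, Pi.smul_apply, smul_eq_mul, nsmul_eq_mul] at h2
  have hu : IsUnit ((k + 1 : ℕ) : R) := by
    have : IsUnit ((k + 1 : ℕ) : K) := isUnit_iff_ne_zero.2 (Nat.cast_ne_zero.2 k.succ_ne_zero)
    simpa using this.map (algebraMap K R)
  have hj' : IsUnit (b.repr (KaehlerDifferential.D K R a) j) := by
    by_contra h; exact hj ((IsLocalRing.mem_maximalIdeal _).2 h)
  have h3 : a ^ k = 0 := by
    have := h2.symm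
    rwa [hu.mul_right_eq_zero, hj'.mul_left_eq_zero] at this
  exact Nat.find_min hex (by omega) h3

/-- The dual numbers over a local ring are local. -/
theorem isLocalRing_dualNumber (A : Type u) [CommRing A] [IsLocalRing A] : IsLocalRing (DualNumber A) :=
  IsLocalRing.of_isUnit_or_isUnit_one_sub_self fun x => by
    rw [TrivSqZeroExt.isUnit_iff_isUnit_fst, TrivSqZeroExt.isUnit_iff_isUnit_fst]
    simpa using IsLocalRing.isUnit_or_isUnit_one_sub_self x.fst

/-- Differentials are free if every tangent vector at the rational closed point extends to a derivation. -/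
theorem free_kaehler_of_extends (K A : Type u) [Field K] [CommRing A] [Algebra K A] [IsLocalRing A]
    [IsNoetherianRing A] [Algebra.EssFiniteType K A] (ev : A →ₐ[K] K)
    (hker : RingHom.ker (ev : A →+* K) = maximalIdeal A)
    (hext : ∀ l : A →ₗ[K] K, (∀ x y, l (x * y) = ev x * l y + ev y * l x) →
      ∃ D : Derivation K A A, ∀ x, ev (D x) = l x) :
    Module.Free A Ω[A⁄K] := by
  classical
  let m := maximalIdeal A
  have hsub : ∀ x, x - algebraMap K A (ev x) ∈ m := fun x => by
    show _ ∈ maximalIdeal A
    rw [← hker, RingHom.mem_ker]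
    simp
  have hsmul : ∀ (c : A) (v : m.Cotangent), c • v = ev c • v := fun c v => by
    rw [← algebraMap_smul A (ev c) v, ← sub_eq_zero, ← sub_smul]
    exact Ideal.Cotangent.smul_eq_zero_of_mem (hsub c) v
  haveI : Module.Finite K m.Cotangent := by
    obtain ⟨s, hs⟩ := (Module.Finite.of_surjective m.toCotangent m.toCotangent_surjective).fg_top
    refine ⟨⟨s, eq_top_iff.2 fun v _ => ?_⟩⟩
    have hv : v ∈ Submodule.span A (s : Set m.Cotangent) := by rw [hs]; trivial
    induction hv using Submodule.span_induction with
    | mem x hx => exact Submodule.subset_span hx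
    | zero => exact zero_mem _
    | add x y _ _ hx hy => exact add_mem (hx trivial) (hy trivial)
    | smul c x _ hx => rw [hsmul]; exact Submodule.smul_mem _ _ (hx trivial)
  let b := Module.finBasis K m.Cotangent
  choose a ha using fun i => m.toCotangent_surjective (b i)
  let q : A →ₗ[K] m.Cotangent :=
    { toFun := fun x => m.toCotangent ⟨x - algebraMap K A (ev x), hsub x⟩
      map_add' := fun x y => by
        rw [← map_add]; congr 1; ext; simp only [map_add, Submodule.coe_add]; ring
      map_smul' := fun c x => by
        rw [RingHom.id_apply, ← LinearMap.map_smul_of_tower]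
        congr 1; ext
        simp [Algebra.smul_def, mul_sub] }
  have hq : ∀ x y, q (x * y) = ev x • q y + ev y • q x := fun x y => by
    show m.toCotangent _ = _ • m.toCotangent _ + _ • m.toCotangent _
    rw [← LinearMap.map_smul_of_tower, ← LinearMap.map_smul_of_tower, ← map_add, Ideal.toCotangent_eq]
    simp only [Submodule.coe_add, Submodule.coe_smul_of_tower, Algebra.smul_def, map_mul]
    have := Ideal.mul_mem_mul (hsub x) (hsub y)
    rw [pow_two]
    convert! this using 1
    ring
  choose D hD using fun i => hext (b.coord i ∘ₗ q) fun x y => by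
    simp [hq]
  have heva : ∀ i, ev (a i : A) = 0 := fun i => by
    have := (hker.ge (a i).2); exact this
  have hqa : ∀ i, q (a i : A) = b i := fun i => by
    rw [← ha i]
    show m.toCotangent _ = _
    congr 1; ext
    simp [heva i]
  let g : (Fin (Module.finrank K m.Cotangent) → A) →ₗ[A] Ω[A⁄K] :=
    Fintype.linearCombination A (fun i => KaehlerDifferential.D K A (a i))
  let h : Ω[A⁄K] →ₗ[A] (Fin (Module.finrank K m.Cotangent) → A) :=
    LinearMap.pi fun i => (D i).liftKaehlerDifferential
  have hspan : ∀ w, w ∈ LinearMap.range g := by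
    suffices ⊤ ≤ LinearMap.range g from fun w => this trivial
    refine Submodule.le_of_le_smul_of_le_jacobson_bot (I := m) Module.Finite.fg_top
      (IsLocalRing.maximalIdeal_le_jacobson _) ?_
    rw [← KaehlerDifferential.span_range_derivation, Submodule.span_le]
    rintro _ ⟨x, rfl⟩
    -- write the class of `x - ev x` in the basis
    let c := b.repr (q x)
    let r := x - algebraMap K A (ev x) - ∑ i, c i • (a i : A)
    have hr : r ∈ m ^ 2 := by
      have h0 : m.toCotangent ⟨x - algebraMap K A (ev x), hsub x⟩ =
          m.toCotangent (∑ i, c i • a i) := by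
        simp only [map_sum, LinearMap.map_smul_of_tower, ha]
        exact (b.sum_repr (q x)).symm
      rw [Ideal.toCotangent_eq] at h0
      simpa [r] using h0
    have hdr : ∀ z ∈ m ^ 2, KaehlerDifferential.D K A z ∈ (m • ⊤ : Submodule A Ω[A⁄K]) := by
      intro z hz
      rw [pow_two] at hz
      refine Submodule.mul_induction_on hz (fun p hp p' hp' => ?_) (fun _ _ h h' => ?_)
      · rw [Derivation.leibniz]
        exact add_mem (Submodule.smul_mem_smul hp trivial) (Submodule.smul_mem_smul hp' trivial)
      · rw [map_add]; exact add_mem h h'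
    have hx : KaehlerDifferential.D K A x =
        (∑ i, c i • KaehlerDifferential.D K A (a i)) + KaehlerDifferential.D K A r := by
      simp [r, map_sum]
    rw [KaehlerDifferential.span_range_derivation, SetLike.mem_coe]
    rw [hx]
    refine Submodule.add_mem_sup (Submodule.sum_mem _ fun i _ => ?_) (hdr r hr)
    rw [← algebraMap_smul A (c i) (KaehlerDifferential.D K A (a i : A))]
    refine Submodule.smul_mem _ _ ⟨Pi.single i 1, ?_⟩
    simp [g, Fintype.linearCombination_apply_single]
  have hcomp : Function.Injective (h ∘ₗ g) := by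
    let M := LinearMap.toMatrix' (h ∘ₗ g)
    have hM : IsUnit M.det := by
      have : M.map ev = 1 := by
        ext i j
        simp only [M, Matrix.map_apply, LinearMap.toMatrix'_apply, LinearMap.comp_apply]
        rw [show g (Pi.single j 1) = KaehlerDifferential.D K A (a j) by
          simp [g, Fintype.linearCombination_apply]]
        simp only [h, LinearMap.pi_apply, Derivation.liftKaehlerDifferential_comp_D, hD,
          LinearMap.comp_apply, hqa]
        simp [Matrix.one_apply, Finsupp.single_apply, eq_comm]
      have h1 : ev M.det = 1 := by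
        rw [AlgHom.map_det]; simp only [AlgHom.mapMatrix_apply, this, Matrix.det_one]
      by_contra hu
      have : M.det ∈ RingHom.ker (ev : A →+* K) := hker.ge ((IsLocalRing.mem_maximalIdeal _).2 hu)
      rw [RingHom.mem_ker] at this
      exact one_ne_zero (h1.symm.trans this)
    intro v w hvw
    apply Matrix.mulVec_injective_of_isUnit ((Matrix.isUnit_iff_isUnit_det M).2 hM)
    simp only [M, LinearMap.toMatrix'_mulVec]
    exact hvw
  have hbij : Function.Bijective g :=
    ⟨fun v w hvw => hcomp (by simp only [LinearMap.comp_apply, hvw]), fun w => hspan w⟩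
  exact Module.Free.of_equiv (LinearEquiv.ofBijective g hbij)

end Groth.Agent.Cartier
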